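import Mathlib

set_option autoImplicit false
set_option backward.isDefEq.respectTransparency.types false
set_option synthInstance.maxHeartbeats 400000
set_option maxHeartbeats 4000000
set_option linter.style.haveILetI false
set_option linter.unusedSectionVars false
set_option linter.unusedVariables false

/-! # `K[[u, v]]/(uv)` is reduced -/

universe u

namespace Groth.Agent.Helper2.Nodal

open MvPowerSeries

variable {σ : Type*} {K : Type*} [CommRing K] [IsDomain K]

/-- the part of a power series not involving the variable `s` -/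
noncomputable def part0 (s : σ) (φ : MvPowerSeries σ K) : MvPowerSeries σ K :=
  fun m => if m s = 0 then coeff m φ else 0

theorem coeff_part0 (s : σ) (φ : MvPowerSeries σ K) (m : σ →₀ ℕ) :
    coeff m (part0 s φ) = if m s = 0 then coeff m φ else 0 := rfl

theorem X_dvd_sub_part0 (s : σ) (φ : MvPowerSeries σ K) : (X s : MvPowerSeries σ K) ∣ φ - part0 s φ := by
  rw [X_dvd_iff]
  intro m hm
  rw [map_sub, coeff_part0, if_pos hm, sub_self]

theorem coeff_part0_mul_part0 (s : σ) (φ ψ : MvPowerSeries σ K) (m : σ →₀ ℕ) (hm : m s ≠ 0) :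
    coeff m (part0 s φ * part0 s ψ) = 0 := by
  classical
  rw [coeff_mul]
  apply Finset.sum_eq_zero
  rintro ⟨i, j⟩ hij
  have hij : i + j = m := Finset.HasAntidiagonal.mem_antidiagonal.mp hij
  show coeff i (part0 s φ) * coeff j (part0 s ψ) = 0
  rw [coeff_part0, coeff_part0]
  by_cases hi : i s = 0
  · by_cases hj : j s = 0
    · exfalso
      apply hm
      rw [← hij, Finsupp.add_apply, hi, hj]
    · rw [if_neg hj, mul_zero]
  · rw [if_neg hi, zero_mul]

theorem X_prime (s : σ) : Prime (X s : MvPowerSeries σ K) := by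
  classical
  refine ⟨?_, ?_, ?_⟩
  · intro h
    have := congrArg (coeff (Finsupp.single s 1)) h
    rw [coeff_X, if_pos rfl, map_zero] at this
    exact one_ne_zero this
  · intro h
    have h1 : (X s : MvPowerSeries σ K) ∣ 1 := h.dvd
    rw [X_dvd_iff] at h1
    have := h1 0 (by simp)
    rw [coeff_zero_one] at this
    exact one_ne_zero this
  · intro φ ψ hdvd
    have h1 : (X s : MvPowerSeries σ K) ∣ part0 s φ * part0 s ψ := by
      have e : part0 s φ * part0 s ψ =
          φ * ψ - ((φ - part0 s φ) * ψ + part0 s φ * (ψ - part0 s ψ)) := by ring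
      rw [e]
      exact dvd_sub hdvd (dvd_add (Dvd.dvd.mul_right (X_dvd_sub_part0 s φ) _)
        (Dvd.dvd.mul_left (X_dvd_sub_part0 s ψ) _))
    have h2 : part0 s φ * part0 s ψ = 0 := by
      ext m
      rw [map_zero]
      by_cases hm : m s = 0
      · exact (X_dvd_iff.mp h1) m hm
      · exact coeff_part0_mul_part0 s φ ψ m hm
    rcases mul_eq_zero.mp h2 with h | h
    · left
      have := X_dvd_sub_part0 s φ
      rwa [h, sub_zero] at this
    · right
      have := X_dvd_sub_part0 s ψ
      rwa [h, sub_zero] at this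

theorem not_X_dvd_X {s t : σ} (hst : s ≠ t) : ¬ (X s : MvPowerSeries σ K) ∣ X t := by
  classical
  intro h
  rw [X_dvd_iff] at h
  have := h (Finsupp.single t 1) (by rw [Finsupp.single_apply, if_neg (Ne.symm hst)])
  rw [coeff_X, if_pos rfl] at this
  exact one_ne_zero this

/-- The ideal `(X s * X t)` is radical for `s ≠ t`. -/
theorem isRadical_span_X_mul_X {s t : σ} (hst : s ≠ t) :
    (Ideal.span {(X s * X t : MvPowerSeries σ K)}).IsRadical := by
  have hs : (Ideal.span {(X s : MvPowerSeries σ K)}).IsPrime :=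
    (Ideal.span_singleton_prime (X_prime s).ne_zero).mpr (X_prime s)
  have ht : (Ideal.span {(X t : MvPowerSeries σ K)}).IsPrime :=
    (Ideal.span_singleton_prime (X_prime t).ne_zero).mpr (X_prime t)
  have heq : Ideal.span {(X s * X t : MvPowerSeries σ K)} =
      Ideal.span {(X s : MvPowerSeries σ K)} ⊓ Ideal.span {(X t : MvPowerSeries σ K)} := by
    apply le_antisymm
    · rw [Ideal.span_singleton_le_iff_mem]
      exact ⟨Ideal.mem_span_singleton.mpr (Dvd.intro _ rfl),
        Ideal.mem_span_singleton.mpr (Dvd.intro_left _ rfl)⟩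
    · rintro f ⟨hf1, hf2⟩
      rw [SetLike.mem_coe, Ideal.mem_span_singleton] at hf1 hf2
      obtain ⟨g, rfl⟩ := hf1
      rcases (X_prime t).dvd_or_dvd hf2 with h | h
      · exact (not_X_dvd_X (Ne.symm hst) h).elim
      · obtain ⟨h', rfl⟩ := h
        rw [Ideal.mem_span_singleton]
        exact ⟨h', by ring⟩
  rw [heq]
  exact hs.isRadical.inf ht.isRadical

theorem isReduced_quotient_X_mul_X {s t : σ} (hst : s ≠ t) :
    IsReduced (MvPowerSeries σ K ⧸ Ideal.span {(X s * X t : MvPowerSeries σ K)}) :=
  (Ideal.isRadical_iff_quotient_reduced _).mp (isRadical_span_X_mul_X hst)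

end Groth.Agent.Helper2.Nodal
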