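import Mathlib
import Groth.Prelude
import Groth.Agent.Lib.Helper2.Nodal.PowerSeries
import Groth.Agent.Lib.Helper2.Norm.SmoothBC
import Groth.Agent.Lib.Helper6.Normal.Scheme
import Groth.Agent.Lib.Lead.SkLoc1
import Groth.Agent.S1545

set_option autoImplicit false
set_option backward.isDefEq.respectTransparency.types false
set_option synthInstance.maxHeartbeats 400000
set_option maxHeartbeats 4000000
set_option linter.style.haveILetI false
set_option linter.unusedSectionVars false
set_option linter.unusedVariables false

/-! # Schemes with at-worst-nodal singularities are reduced -/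

universe u

open CategoryTheory CategoryTheory.Limits AlgebraicGeometry IsLocalRing TopologicalSpace

namespace Groth.Agent.Helper2.Nodal

theorem isReduced_of_isOrdDoublePt (K : Type u) [Field K] (A : Type u) [CommRing A] [Algebra K A]
    [IsLocalRing A] [IsNoetherianRing A] (h : Curv2.IsOrdDoublePt K A) : IsReduced A := by
  obtain ⟨e, -⟩ := h
  haveI : IsReduced (MvPowerSeries (Fin 2) K ⧸
      Ideal.span {(MvPowerSeries.X 0 * MvPowerSeries.X 1 : MvPowerSeries (Fin 2) K)}) :=
    isReduced_quotient_X_mul_X (by decide)
  haveI : IsReduced (AdicCompletion (maximalIdeal A) A) :=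
    isReduced_of_injective e.toRingHom e.injective
  have hinj : Function.Injective (algebraMap A (AdicCompletion (maximalIdeal A) A)) :=
    AdicCompletion.of_injective (maximalIdeal A) A
  exact isReduced_of_injective (algebraMap A (AdicCompletion (maximalIdeal A) A)) hinj

theorem isReduced_stalk_of_isNode (k : Type u) [Field k] (X : Scheme.{u})
    [X.Over (Spec (CommRingCat.of k))] [LocallyOfFiniteType (X ↘ Spec (CommRingCat.of k))]
    (x : X) (hx : Curv2.IsNode k X x) : IsReduced (X.presheaf.stalk x) := by
  obtain ⟨-, xb, rfl, hod⟩ := hx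
  haveI : LocallyOfFiniteType (Curv2.bcSnd k X (AlgebraicClosure k)) :=
    MorphismProperty.pullback_snd (P := @LocallyOfFiniteType) _ _ inferInstance
  haveI : IsLocallyNoetherian (Curv2.bc k X (AlgebraicClosure k)) :=
    LocallyOfFiniteType.isLocallyNoetherian (Curv2.bcSnd k X (AlgebraicClosure k))
  haveI : IsNoetherianRing ((Curv2.bc k X (AlgebraicClosure k)).presheaf.stalk xb) :=
    inferInstance
  letI : (Curv2.bc k X (AlgebraicClosure k)).Over (Spec (CommRingCat.of (AlgebraicClosure k))) :=
    ⟨Curv2.bcSnd k X (AlgebraicClosure k)⟩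
  letI := Curv2.stalkAlgebra (AlgebraicClosure k) (Curv2.bc k X (AlgebraicClosure k)) xb
  haveI : IsReduced ((Curv2.bc k X (AlgebraicClosure k)).presheaf.stalk xb) :=
    isReduced_of_isOrdDoublePt (AlgebraicClosure k) _ hod
  haveI : Flat (Spec.map (CommRingCat.ofHom (algebraMap k (AlgebraicClosure k)))) := by
    rw [Flat.SpecMap_iff]
    exact RingHom.flat_algebraMap_iff.mpr inferInstance
  haveI : Flat (Curv2.bcFst k X (AlgebraicClosure k)) :=
    MorphismProperty.pullback_fst (P := @Flat) _ _ inferInstance
  exact isReduced_of_injective _ (Groth.Agent.S1545.stalkMap_injective_of_flat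
    (Curv2.bcFst k X (AlgebraicClosure k)) xb)

theorem isReduced_stalk_of_atWorstNodal (k : Type u) [Field k] (X : Scheme.{u})
    [X.Over (Spec (CommRingCat.of k))] [LocallyOfFiniteType (X ↘ Spec (CommRingCat.of k))]
    (h : Curv2.AtWorstNodal k X) (y : X) : IsReduced (X.presheaf.stalk y) := by
  haveI : JacobsonSpace X := LocallyOfFiniteType.jacobsonSpace (X ↘ Spec (CommRingCat.of k))
  obtain ⟨x, hxy, hx⟩ := nonempty_inter_closedPoints (X := X) (Z := closure {y})
    ⟨y, subset_closure rfl⟩ isClosed_closure.isLocallyClosed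
  have hspec : y ⤳ x := specializes_iff_mem_closure.mpr hxy
  have hxcl : IsClosed ({x} : Set X) := hx
  have hred : IsReduced (X.presheaf.stalk x) := by
    rcases h x hxcl with ⟨U, hxU, hsm⟩ | hnode
    · haveI := hsm
      have hN : Pi1.IsNormalScheme U :=
        Groth.Agent.Lib.Helper6.Normal.isNormalScheme_of_smooth
          (U.ι ≫ (X ↘ Spec (CommRingCat.of k)))
          (Groth.Agent.Helper2.NormSmooth.isNormalScheme_Spec_of_isField _ (Field.toIsField k))
      obtain ⟨hdom, -⟩ := hN ⟨x, hxU⟩
      haveI : IsReduced ((U : Scheme).presheaf.stalk ⟨x, hxU⟩) := inferInstance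
      have i1 := asIso (U.ι.stalkMap ⟨x, hxU⟩)
      exact isReduced_of_injective (i1.commRingCatIsoToRingEquiv).toRingHom
        (i1.commRingCatIsoToRingEquiv).injective
    · exact isReduced_stalk_of_isNode k X x hnode
  obtain ⟨Q, hQ, ⟨e⟩⟩ := Groth.Agent.Lead.SkLoc.exists_prime_of_specializes X x y hspec
  haveI := hred
  haveI : IsReduced (Localization.AtPrime Q) :=
    inferInstanceAs (IsReduced (Localization Q.primeCompl))
  exact isReduced_of_injective e.symm.toRingHom e.symm.injective

end Groth.Agent.Helper2.Nodal
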