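import Mathlib
import Groth.Prelude
import Groth.Agent.Lib.Helper2.Nodal.Reduced
import Groth.Agent.Lib.Helper2.GeomRed.OpenLocus
import Groth.Agent.Lib.Helper2.Sch.SmoothFieldRegular
import Groth.Agent.Lib.Helper8.GorFlat5
import Groth.Agent.Lib.Helper8.LD15
import Groth.Agent.Lib.Helper8.MvPSDim
import Groth.Agent.Lib.Helper8.AdicReg1
import Groth.Agent.Lib.Helper8.ExtLoc4
import Groth.Agent.S2521
import Groth.Agent.S7591

set_option autoImplicit false
set_option backward.isDefEq.respectTransparency.types false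
set_option synthInstance.maxHeartbeats 400000
set_option maxHeartbeats 4000000
set_option linter.style.haveILetI false
set_option linter.unusedSectionVars false
set_option linter.unusedVariables false

/-! # At-worst-nodal curves are Gorenstein and geometrically reduced -/

universe u

open CategoryTheory CategoryTheory.Limits AlgebraicGeometry IsLocalRing TopologicalSpace LocCoh

namespace Groth.Agent.Helper2.Nodal

/-- `K[[u,v]]/(uv)` is Gorenstein. -/
theorem isGorenstein_quotient_X_mul_X (K : Type u) [Field K] :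
    IsGorensteinLocalRing (MvPowerSeries (Fin 2) K ⧸
      Ideal.span {(MvPowerSeries.X 0 * MvPowerSeries.X 1 : MvPowerSeries (Fin 2) K)}) := by
  haveI : IsRegularLocalRing (MvPowerSeries (Fin 2) K) :=
    Groth.Agent.Helper8.isRegularLocalRing_mvPowerSeries_fin K 2
  have hG := Groth.Agent.Helper8.ABS.isGorensteinLocalRing_of_isRegularLocalRing
    (MvPowerSeries (Fin 2) K)
  have hne : (MvPowerSeries.X 0 * MvPowerSeries.X 1 : MvPowerSeries (Fin 2) K) ≠ 0 :=
    mul_ne_zero (X_prime (0 : Fin 2)).ne_zero (X_prime (1 : Fin 2)).ne_zero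
  have hmem : (MvPowerSeries.X 0 * MvPowerSeries.X 1 : MvPowerSeries (Fin 2) K) ∈
      maximalIdeal (MvPowerSeries (Fin 2) K) := by
    rw [IsLocalRing.mem_maximalIdeal, mem_nonunits_iff]
    intro hu
    exact (X_prime (0 : Fin 2)).not_isUnit (isUnit_of_mul_isUnit_left hu)
  have hreg : IsSMulRegular (MvPowerSeries (Fin 2) K)
      (MvPowerSeries.X 0 * MvPowerSeries.X 1 : MvPowerSeries (Fin 2) K) :=
    (IsRegular.of_ne_zero hne).left.isSMulRegular
  exact Groth.Agent.Helper8.LD.isGorensteinLocalRing_quotient _ _ hmem hreg hG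

/-- Gorenstein descends from the completion. -/
theorem isGorenstein_of_adicCompletion (A : Type u) [CommRing A] [IsLocalRing A]
    [IsNoetherianRing A]
    (h : IsGorensteinLocalRing (AdicCompletion (maximalIdeal A) A)) :
    IsGorensteinLocalRing A := by
  have hfg : (maximalIdeal A).FG := IsNoetherian.noetherian _
  have hI : maximalIdeal A ≠ ⊤ := (maximalIdeal.isMaximal A).ne_top
  haveI := Groth.Agent.Helper8.AdicReg.isLocalRing A (maximalIdeal A) hfg hI
  haveI := Groth.Agent.Helper8.AdicReg.isNoetherianRing A (maximalIdeal A)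
  haveI := Groth.Agent.Helper8.AdicReg.isLocalHom A (maximalIdeal A) hfg hI
  exact ((Groth.Agent.Helper8.GorFlat.isGorensteinLocalRing_iff_of_flat A
    (AdicCompletion (maximalIdeal A) A)).mp h).1

theorem isGorenstein_of_isOrdDoublePt (K : Type u) [Field K] (A : Type u) [CommRing A]
    [Algebra K A] [IsLocalRing A] [IsNoetherianRing A] (h : Curv2.IsOrdDoublePt K A) :
    IsGorensteinLocalRing A := by
  obtain ⟨e, -⟩ := h
  exact isGorenstein_of_adicCompletion A
    (Groth.Agent.Helper8.GorFlat.isGorensteinLocalRing_of_ringEquiv e.symm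
      (isGorenstein_quotient_X_mul_X K))

section Node

variable (k : Type u) [Field k] (X : Scheme.{u}) [X.Over (Spec (CommRingCat.of k))]
  [LocallyOfFiniteType (X ↘ Spec (CommRingCat.of k))]

theorem isLocallyNoetherian_bc (K : Type u) [Field K] [Algebra k K] :
    IsLocallyNoetherian (Curv2.bc k X K) := by
  haveI : LocallyOfFiniteType (Curv2.bcSnd k X K) :=
    MorphismProperty.pullback_snd (P := @LocallyOfFiniteType) _ _ inferInstance
  exact LocallyOfFiniteType.isLocallyNoetherian (Curv2.bcSnd k X K)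

theorem flat_bcFst (K : Type u) [Field K] [Algebra k K] : Flat (Curv2.bcFst k X K) := by
  haveI : Flat (Spec.map (CommRingCat.ofHom (algebraMap k K))) := by
    rw [Flat.SpecMap_iff]
    exact RingHom.flat_algebraMap_iff.mpr inferInstance
  exact MorphismProperty.pullback_fst (P := @Flat) _ _ inferInstance

theorem isGeomReducedAt_of_isNode (x : X) (hx : Curv2.IsNode k X x) :
    Curv2.IsGeomReducedAt k X x := by
  obtain ⟨-, xb, hxb, hod⟩ := hx
  haveI := isLocallyNoetherian_bc k X (AlgebraicClosure k)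
  haveI : IsNoetherianRing ((Curv2.bc k X (AlgebraicClosure k)).presheaf.stalk xb) :=
    inferInstance
  letI : (Curv2.bc k X (AlgebraicClosure k)).Over (Spec (CommRingCat.of (AlgebraicClosure k))) :=
    ⟨Curv2.bcSnd k X (AlgebraicClosure k)⟩
  letI := Curv2.stalkAlgebra (AlgebraicClosure k) (Curv2.bc k X (AlgebraicClosure k)) xb
  have hred : _root_.IsReduced ((Curv2.bc k X (AlgebraicClosure k)).presheaf.stalk xb) :=
    isReduced_of_isOrdDoublePt (AlgebraicClosure k) _ hod
  exact (Groth.Agent.S2521.isGeomReducedAt_iff_curv2 (X ↘ Spec (CommRingCat.of k)) x).mp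
    (Groth.Agent.S2521.result (X ↘ Spec (CommRingCat.of k)) x xb hxb hred)

theorem isGorenstein_stalk_of_isNode (x : X) (hx : Curv2.IsNode k X x) :
    IsGorensteinLocalRing (X.presheaf.stalk x) := by
  obtain ⟨-, xb, rfl, hod⟩ := hx
  haveI := isLocallyNoetherian_bc k X (AlgebraicClosure k)
  haveI : IsLocallyNoetherian X :=
    LocallyOfFiniteType.isLocallyNoetherian (X ↘ Spec (CommRingCat.of k))
  haveI : IsNoetherianRing ((Curv2.bc k X (AlgebraicClosure k)).presheaf.stalk xb) :=
    inferInstance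
  haveI : IsNoetherianRing (X.presheaf.stalk (Curv2.bcFst k X (AlgebraicClosure k) xb)) :=
    inferInstance
  letI : (Curv2.bc k X (AlgebraicClosure k)).Over (Spec (CommRingCat.of (AlgebraicClosure k))) :=
    ⟨Curv2.bcSnd k X (AlgebraicClosure k)⟩
  letI := Curv2.stalkAlgebra (AlgebraicClosure k) (Curv2.bc k X (AlgebraicClosure k)) xb
  have hG : IsGorensteinLocalRing ((Curv2.bc k X (AlgebraicClosure k)).presheaf.stalk xb) :=
    isGorenstein_of_isOrdDoublePt (AlgebraicClosure k) _ hod
  haveI := flat_bcFst k X (AlgebraicClosure k)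
  letI : Algebra (X.presheaf.stalk (Curv2.bcFst k X (AlgebraicClosure k) xb))
      ((Curv2.bc k X (AlgebraicClosure k)).presheaf.stalk xb) :=
    ((Curv2.bcFst k X (AlgebraicClosure k)).stalkMap xb).hom.toAlgebra
  haveI : Module.Flat (X.presheaf.stalk (Curv2.bcFst k X (AlgebraicClosure k) xb))
      ((Curv2.bc k X (AlgebraicClosure k)).presheaf.stalk xb) :=
    RingHom.flat_algebraMap_iff.mp (Flat.stalkMap (Curv2.bcFst k X (AlgebraicClosure k)) xb)
  haveI : IsLocalHom (algebraMap (X.presheaf.stalk (Curv2.bcFst k X (AlgebraicClosure k) xb))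
      ((Curv2.bc k X (AlgebraicClosure k)).presheaf.stalk xb)) :=
    inferInstanceAs (IsLocalHom ((Curv2.bcFst k X (AlgebraicClosure k)).stalkMap xb).hom)
  exact ((Groth.Agent.Helper8.GorFlat.isGorensteinLocalRing_iff_of_flat
    (X.presheaf.stalk (Curv2.bcFst k X (AlgebraicClosure k) xb))
    ((Curv2.bc k X (AlgebraicClosure k)).presheaf.stalk xb)).mp hG).1

/-- geometric reducedness at points of a smooth open -/
theorem isGeomReducedAt_of_smooth (U : X.Opens)
    (hsm : Smooth (U.ι ≫ (X ↘ Spec (CommRingCat.of k)))) (x : X) (hxU : x ∈ U) :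
    Curv2.IsGeomReducedAt k X x := by
  intro K _ _ x' hx'
  have hpb := Groth.Agent.S7591.isPullback_bcMap U.ι (X ↘ Spec (CommRingCat.of k)) K
  have hx'' : Groth.Agent.S2502.bcπ (X ↘ Spec (CommRingCat.of k)) K x' = U.ι ⟨x, hxU⟩ := hx'
  obtain ⟨z, rfl, -⟩ := Groth.Agent.S2502.exists_preimage_of_isPullback hpb x' ⟨x, hxU⟩ hx''
  haveI : IsOpenImmersion (Groth.Agent.S7591.bcMap U.ι (X ↘ Spec (CommRingCat.of k)) K) :=
    MorphismProperty.of_isPullback (P := @IsOpenImmersion) hpb.flip inferInstance
  haveI := hsm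
  haveI : Smooth (pullback.snd (U.ι ≫ (X ↘ Spec (CommRingCat.of k)))
      (Spec.map (CommRingCat.ofHom (algebraMap k K)))) :=
    MorphismProperty.pullback_snd (P := @Smooth) _ _ inferInstance
  have hN : Pi1.IsNormalScheme
      (Groth.Agent.S2502.bc (U.ι ≫ (X ↘ Spec (CommRingCat.of k))) K) :=
    Groth.Agent.Lib.Helper6.Normal.isNormalScheme_of_smooth
      (pullback.snd (U.ι ≫ (X ↘ Spec (CommRingCat.of k)))
        (Spec.map (CommRingCat.ofHom (algebraMap k K))))
      (Groth.Agent.Helper2.NormSmooth.isNormalScheme_Spec_of_isField _ (Field.toIsField K))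
  obtain ⟨hdom, -⟩ := hN z
  haveI : _root_.IsReduced
      ((Groth.Agent.S2502.bc (U.ι ≫ (X ↘ Spec (CommRingCat.of k))) K).presheaf.stalk z) :=
    inferInstance
  have i1 := asIso ((Groth.Agent.S7591.bcMap U.ι (X ↘ Spec (CommRingCat.of k)) K).stalkMap z)
  exact isReduced_of_injective (i1.commRingCatIsoToRingEquiv).toRingHom
    (i1.commRingCatIsoToRingEquiv).injective

theorem isGeomReducedAt_of_atWorstNodal (h : Curv2.AtWorstNodal k X) (y : X) :
    Curv2.IsGeomReducedAt k X y := by
  haveI : IsLocallyNoetherian X :=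
    LocallyOfFiniteType.isLocallyNoetherian (X ↘ Spec (CommRingCat.of k))
  haveI : JacobsonSpace X := LocallyOfFiniteType.jacobsonSpace (X ↘ Spec (CommRingCat.of k))
  have hopen := Groth.Agent.Helper2.GeomRedOpen.main (X ↘ Spec (CommRingCat.of k))
  by_contra hy
  obtain ⟨x, hxc, hx⟩ := nonempty_inter_closedPoints (X := X)
    (Z := {x : X | FBase.IsGeomReducedAt (X ↘ Spec (CommRingCat.of k)) x}ᶜ)
    ⟨y, hy⟩ hopen.isClosed_compl.isLocallyClosed
  have hxcl : IsClosed ({x} : Set X) := hx
  apply hxc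
  rcases h x hxcl with ⟨U, hxU, hsm⟩ | hnode
  · exact isGeomReducedAt_of_smooth k X U hsm x hxU
  · exact isGeomReducedAt_of_isNode k X x hnode

theorem geometricallyReduced_of_atWorstNodal (h : Curv2.AtWorstNodal k X) :
    GeometricallyReduced (X ↘ Spec (CommRingCat.of k)) := by
  refine ⟨geometrically_iff_of_commRing_of_isClosedUnderIsomorphisms.mpr fun K _ _ => ?_⟩
  haveI : ∀ x' : ↥(pullback (X ↘ Spec (CommRingCat.of k))
      (Spec.map (CommRingCat.ofHom (algebraMap k K)))),
      _root_.IsReduced ((pullback (X ↘ Spec (CommRingCat.of k))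
        (Spec.map (CommRingCat.ofHom (algebraMap k K)))).presheaf.stalk x') :=
    fun x' => isGeomReducedAt_of_atWorstNodal k X h _ K x' rfl
  exact isReduced_of_isReduced_stalk _

theorem isGorenstein_stalk_of_atWorstNodal (h : Curv2.AtWorstNodal k X) (y : X) :
    IsGorensteinLocalRing (X.presheaf.stalk y) := by
  haveI : JacobsonSpace X := LocallyOfFiniteType.jacobsonSpace (X ↘ Spec (CommRingCat.of k))
  obtain ⟨x, hxy, hx⟩ := nonempty_inter_closedPoints (X := X) (Z := closure {y})
    ⟨y, subset_closure rfl⟩ isClosed_closure.isLocallyClosed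
  have hspec : y ⤳ x := specializes_iff_mem_closure.mpr hxy
  have hxcl : IsClosed ({x} : Set X) := hx
  have hG : IsGorensteinLocalRing (X.presheaf.stalk x) := by
    rcases h x hxcl with ⟨U, hxU, hsm⟩ | hnode
    · haveI := hsm
      haveI : IsRegularLocalRing ((U : Scheme).presheaf.stalk ⟨x, hxU⟩) :=
        Groth.Agent.Helper2.SmoothFieldRegular.S1535_main k
          (U.ι ≫ (X ↘ Spec (CommRingCat.of k))) ⟨x, hxU⟩
      have hGU := Groth.Agent.Helper8.ABS.isGorensteinLocalRing_of_isRegularLocalRing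
        ((U : Scheme).presheaf.stalk ⟨x, hxU⟩)
      have i1 := asIso (U.ι.stalkMap ⟨x, hxU⟩)
      exact Groth.Agent.Helper8.GorFlat.isGorensteinLocalRing_of_ringEquiv
        (i1.commRingCatIsoToRingEquiv).symm hGU
    · exact isGorenstein_stalk_of_isNode k X x hnode
  obtain ⟨Q, hQ, ⟨e⟩⟩ := Groth.Agent.Lead.SkLoc.exists_prime_of_specializes X x y hspec
  have hGQ : IsGorensteinLocalRing (Localization.AtPrime Q) :=
    Groth.Agent.Helper8.ExtLoc.isGorensteinLocalRing_localization Q
      hG.exists_hasInjectiveDimensionLT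
  exact Groth.Agent.Helper8.GorFlat.isGorensteinLocalRing_of_ringEquiv e hGQ

end Node

end Groth.Agent.Helper2.Nodal
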