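import Mathlib
import Groth.Prelude
import Groth.Agent.Lib.Helper2.Nodal.Reduced
import Groth.Agent.Lib.Helper2.NormFam.Main

set_option autoImplicit false
set_option backward.isDefEq.respectTransparency.types false
set_option synthInstance.maxHeartbeats 400000
set_option maxHeartbeats 4000000
set_option linter.style.haveILetI false
set_option linter.unusedSectionVars false
set_option linter.unusedVariables false

/-! # Normality of a nodal family over a Dedekind domain with normal generic fibre -/

universe u

open CategoryTheory CategoryTheory.Limits AlgebraicGeometry IsLocalRing TopologicalSpace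

namespace Groth.Agent.Helper2.Nodal

open LocCoh Groth.Agent.Helper8.FlatReg Groth.Agent.Helper8.GorFlat Groth.Agent.Lead.SkLoc
  Groth.Agent.Helper3.FibStalk Groth.Agent.Helper2.NormFam

/-- pointwise conditions, with normality above the generic point and reduced fibre stalks
elsewhere -/
theorem pt' {S C : Scheme.{u}} [IsIntegral S] [IsLocallyNoetherian S]
    (hS : Pi1.IsNormalScheme S) (f : C ⟶ S) [Flat f] [LocallyOfFiniteType f]
    (hgen : ∀ c : C, f c = genericPoint S →
      IsDomain (C.presheaf.stalk c) ∧ IsIntegrallyClosed (C.presheaf.stalk c))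
    (hred : ∀ c : C, f c ≠ genericPoint S →
      _root_.IsReduced ((f.fiber (f c)).presheaf.stalk (f.asFiber c)))
    (c : C) :
    SkLocal 2 (C.presheaf.stalk c) ∧
      (ringKrullDim (C.presheaf.stalk c) ≤ 1 → IsRegularLocalRing (C.presheaf.stalk c)) := by
  haveI : IsLocallyNoetherian C := LocallyOfFiniteType.isLocallyNoetherian f
  haveI : IsLocallyNoetherian (f.fiber (f c)) :=
    Groth.Agent.Lead.CMQF.isLocallyNoetherian_fiber f (f c)
  haveI : IsNoetherianRing (C.presheaf.stalk c) := inferInstance
  haveI : IsNoetherianRing (S.presheaf.stalk (f c)) := inferInstance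
  haveI : IsNoetherianRing ((f.fiber (f c)).presheaf.stalk (f.asFiber c)) := inferInstance
  by_cases hg : f c = genericPoint S
  · exact pt_of_normal _ (hgen c hg)
  · obtain ⟨γ, hγ, hk⟩ := exists_fibre_presentation f c
    have D : FLData (f.stalkMap c).hom γ := ⟨Flat.stalkMap f c, inferInstance, hγ, hk⟩
    obtain ⟨hdom, hic⟩ := hS (f c)
    have hpos := one_le_ringKrullDim_stalk S (f c) hg
    haveI : _root_.IsReduced ((f.fiber (f c)).presheaf.stalk (f.asFiber c)) := hred c hg
    refine ⟨skLocal_two_of_flData D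
      (skLocal_of_hasSk 2 (hasSk_two_of_normal_domain (S.presheaf.stalk (f c))))
      (skLocal_one_of_isReduced _) hpos, fun hd => ?_⟩
    exact isRegularLocalRing_of_flData_dim_le_one D hd hpos
      (hasRk_one_of_normal_domain (S.presheaf.stalk (f c)))

theorem main' (S C : Scheme.{u}) [IsIntegral S] [IsLocallyNoetherian S]
    (hS : Pi1.IsNormalScheme S) (f : C ⟶ S) [Flat f] [LocallyOfFiniteType f]
    (hgen : ∀ c : C, f c = genericPoint S →
      IsDomain (C.presheaf.stalk c) ∧ IsIntegrallyClosed (C.presheaf.stalk c))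
    (hred : ∀ c : C, f c ≠ genericPoint S →
      _root_.IsReduced ((f.fiber (f c)).presheaf.stalk (f.asFiber c))) :
    Pi1.IsNormalScheme C := by
  haveI : IsLocallyNoetherian C := LocallyOfFiniteType.isLocallyNoetherian f
  intro c
  haveI : IsNoetherianRing (C.presheaf.stalk c) := inferInstance
  refine (Groth.Agent.Lead.RkLoc.normal_iff_R1_S2 (C.presheaf.stalk c)).mpr ⟨?_, ?_⟩
  · intro p hp hht
    obtain ⟨c', -, ⟨e⟩⟩ := exists_equiv_of_prime C c p
    have hd : ringKrullDim (C.presheaf.stalk c') ≤ 1 := by
      rw [← ringKrullDim_eq_of_ringEquiv e,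
        IsLocalization.AtPrime.ringKrullDim_eq_height p (Localization.AtPrime p)]
      exact_mod_cast hht
    haveI := (pt' hS f hgen hred c').2 hd
    exact IsRegularLocalRing.of_ringEquiv e.symm
  · exact (hasSk_stalk_iff C c 2).mpr fun c' _ => (pt' hS f hgen hred c').1

theorem isNormalScheme_Spec_of_isIntegrallyClosed (R : CommRingCat.{u}) [IsDomain R]
    [IsIntegrallyClosed R] : Pi1.IsNormalScheme (Spec R) := by
  intro x
  refine (Groth.Agent.Lib.Helper6.Normal.isNormalRing_iff_affine
    (isAffineOpen_top (Spec R))).mp ?_ x trivial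
  let e : Γ(Spec R, ⊤) ≃+* R := (Scheme.ΓSpecIso R).commRingCatIsoToRingEquiv
  haveI : IsDomain Γ(Spec R, ⊤) := e.toMulEquiv.isDomain _
  haveI : IsIntegrallyClosed Γ(Spec R, ⊤) := IsIntegrallyClosed.of_equiv e.symm
  intro p hp
  exact ⟨IsLocalization.isDomain_localization (Ideal.primeCompl_le_nonZeroDivisors p),
    isIntegrallyClosed_of_isLocalization _ p.primeCompl
    (Ideal.primeCompl_le_nonZeroDivisors p)⟩

theorem nodalFamily_normal {R : Type u} [CommRing R] [IsDedekindDomain R]
    {X : Scheme.{u}} (f : X ⟶ Spec (CommRingCat.of R)) (hf : Curv2.IsNodalFamily f)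
    (hgen : ∀ x : X, (f.base x).asIdeal = ⊥ →
      IsDomain (X.presheaf.stalk x) ∧ IsIntegrallyClosed (X.presheaf.stalk x)) :
    ∀ x : X, IsDomain (X.presheaf.stalk x) ∧ IsIntegrallyClosed (X.presheaf.stalk x) := by
  obtain ⟨hflat, hlfp, hfib⟩ := hf
  haveI := hflat
  haveI := hlfp
  haveI : IsDomain (CommRingCat.of R) := inferInstanceAs (IsDomain R)
  haveI : IsIntegrallyClosed (CommRingCat.of R) := inferInstanceAs (IsIntegrallyClosed R)
  haveI : IsNoetherianRing (CommRingCat.of R) := inferInstanceAs (IsNoetherianRing R)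
  have hS := isNormalScheme_Spec_of_isIntegrallyClosed (CommRingCat.of R)
  refine main' (Spec (CommRingCat.of R)) X hS f ?_ ?_
  · intro c hc
    refine hgen c ?_
    rw [genericPoint_eq_bot_of_affine] at hc
    have h2 : (f.base c).asIdeal = (⊥ : PrimeSpectrum (CommRingCat.of R)).asIdeal :=
      congrArg PrimeSpectrum.asIdeal hc
    exact h2
  · intro c hc
    obtain ⟨-, hnod⟩ := hfib (f c)
    letI : (f.fiber (f c)).Over (Spec ((Spec (CommRingCat.of R)).residueField (f c))) :=
      ⟨f.fiberToSpecResidueField (f c)⟩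
    haveI : LocallyOfFiniteType ((f.fiber (f c)) ↘
        Spec (CommRingCat.of ((Spec (CommRingCat.of R)).residueField (f c)))) :=
      MorphismProperty.pullback_snd (P := @LocallyOfFiniteType) _ _ inferInstance
    exact isReduced_stalk_of_atWorstNodal _ (f.fiber (f c)) hnod (f.asFiber c)

end Groth.Agent.Helper2.Nodal
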